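import Mathlib
import Groth.Agent.Lib.Helper7.Hensel.FiniteEtaleHom

/-! helper7: unique lifting of algebra maps from an etale algebra into the reduction of a finite algebra over a henselian pair. -/

set_option autoImplicit false
set_option linter.style.haveILetI false
set_option linter.unusedVariables false
set_option linter.unusedSectionVars false

open TensorProduct

namespace Groth.Agent.Helper7.FEtAff

open Groth.Agent.Helper7.Hensel

universe u

/-- Over a henselian pair `(A, I)`, an `A`-algebra map from an etale algebra `B₂` to the reduction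
`B₁ ⊗[A] A ⧸ I` of a finite algebra `B₁` lifts uniquely to `B₁`. -/
theorem existsUnique_lift_tensor {A : Type u} [CommRing A] {I : Ideal A} (hG : Gabber A I)
    (B₁ B₂ : Type u) [CommRing B₁] [CommRing B₂] [Algebra A B₁] [Algebra A B₂]
    [Module.Finite A B₁] [Algebra.Etale A B₂] (γ : B₂ →ₐ[A] B₁ ⊗[A] (A ⧸ I)) :
    ∃! φ : B₂ →ₐ[A] B₁, (Algebra.TensorProduct.includeLeft : B₁ →ₐ[A] B₁ ⊗[A] (A ⧸ I)).comp φ = γ := by
  have hint : Algebra.IsIntegral A B₁ := inferInstance
  let e := Algebra.TensorProduct.quotIdealMapEquivTensorQuot B₁ I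
  have he : ∀ b : B₁, e (Ideal.Quotient.mk _ b) = b ⊗ₜ[A] (1 : A ⧸ I) := fun b => rfl
  have hG₁ : Gabber B₁ (I.map (algebraMap A B₁)) := hG.of_isIntegral
  let γ' : B₂ →ₐ[A] B₁ ⧸ I.map (algebraMap A B₁) :=
    (e.symm.toAlgHom.restrictScalars A).comp γ
  let σ : B₁ ⊗[A] B₂ →ₐ[B₁] B₁ ⧸ I.map (algebraMap A B₁) :=
    Algebra.TensorProduct.lift (Algebra.ofId B₁ _) γ' (fun _ _ => Commute.all _ _)
  obtain ⟨τ, hτ⟩ := hG₁.exists_lift_of_etale (B₁ ⊗[A] B₂) σ
  refine ⟨(τ.restrictScalars A).comp Algebra.TensorProduct.includeRight, ?_, ?_⟩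
  · ext x
    have h1 := AlgHom.congr_fun hτ ((1 : B₁) ⊗ₜ[A] x)
    have h2 : σ ((1 : B₁) ⊗ₜ[A] x) = e.symm (γ x) := by
      simp [σ, γ']
    rw [h2] at h1
    simp only [AlgHom.comp_apply, AlgHom.restrictScalars_apply,
      Algebra.TensorProduct.includeRight_apply, Algebra.TensorProduct.includeLeft_apply]
    rw [← he, ← e.apply_symm_apply (γ x), ← h1]
    rfl
  · intro φ' hφ'
    apply algHom_eq_of_formallyUnramified (I.map (algebraMap A B₁))
      (map_le_jacobson_of_isIntegral hG.1)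
    intro x
    rw [← Ideal.Quotient.eq]
    apply e.injective
    rw [he, he]
    have h1 := AlgHom.congr_fun hφ' x
    simp only [AlgHom.comp_apply, Algebra.TensorProduct.includeLeft_apply] at h1
    rw [h1]
    have h3 := AlgHom.congr_fun hτ ((1 : B₁) ⊗ₜ[A] x)
    have h2 : σ ((1 : B₁) ⊗ₜ[A] x) = e.symm (γ x) := by
      simp [σ, γ']
    rw [h2] at h3
    simp only [AlgHom.comp_apply, AlgHom.restrictScalars_apply,
      Algebra.TensorProduct.includeRight_apply]
    rw [← he, ← e.apply_symm_apply (γ x), ← h3]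
    rfl

end Groth.Agent.Helper7.FEtAff
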