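import Mathlib
import Groth.Prelude.Def_FEt

/-! helper7: dictionary between finite etale covers of an affine scheme and finite etale algebras. -/

set_option autoImplicit false
set_option linter.style.haveILetI false
set_option linter.unusedVariables false
set_option linter.unusedSectionVars false

open CategoryTheory CategoryTheory.Limits AlgebraicGeometry TensorProduct

namespace Groth.Agent.Helper7.FEtAff

universe u

section Dict

variable (R : Type u) [CommRing R]

/-- The finite etale cover of `Spec R` attached to a finite etale `R`-algebra. -/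
noncomputable def ofAlg (B : Type u) [CommRing B] [Algebra R B] [Module.Finite R B]
    [Algebra.Etale R B] : FEt.Cat (Spec (CommRingCat.of R)) :=
  MorphismProperty.Over.mk ⊤ (Spec.map (CommRingCat.ofHom (algebraMap R B)))
    ⟨(IsFinite.SpecMap_iff _).mpr (RingHom.finite_algebraMap.mpr inferInstance),
      (HasRingHomProperty.Spec_iff (P := @Etale)).mpr (RingHom.etale_algebraMap.mpr inferInstance)⟩

@[simp] lemma ofAlg_left (B : Type u) [CommRing B] [Algebra R B] [Module.Finite R B]
    [Algebra.Etale R B] : (ofAlg R B).left = Spec (CommRingCat.of B) := rfl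

@[simp] lemma ofAlg_hom (B : Type u) [CommRing B] [Algebra R B] [Module.Finite R B]
    [Algebra.Etale R B] :
    (ofAlg R B).hom = Spec.map (CommRingCat.ofHom (algebraMap R B)) := rfl

/-- Every finite etale cover of `Spec R` comes from a finite etale algebra. -/
theorem exists_iso_ofAlg (Y : FEt.Cat (Spec (CommRingCat.of R))) :
    ∃ (B : Type u) (_ : CommRing B) (_ : Algebra R B) (_ : Module.Finite R B)
      (_ : Algebra.Etale R B), Nonempty (Y ≅ ofAlg R B) := by
  let yh : Y.left ⟶ Spec (CommRingCat.of R) := Y.hom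
  haveI hfin : IsFinite yh := Y.prop.1
  haveI het : Etale yh := Y.prop.2
  haveI : IsAffine Y.left := isAffine_of_isAffineHom yh
  let e : Y.left ≅ Spec Γ(Y.left, ⊤) := Y.left.isoSpec
  let φ : CommRingCat.of R ⟶ Γ(Y.left, ⊤) := Spec.preimage (e.inv ≫ yh)
  have hφ : Spec.map φ = e.inv ≫ yh := Spec.map_preimage _
  letI : Algebra R Γ(Y.left, ⊤) := φ.hom.toAlgebra
  have hfin' : IsFinite (Spec.map φ) := by rw [hφ]; infer_instance
  have het' : Etale (Spec.map φ) := by rw [hφ]; infer_instance
  haveI : Module.Finite R Γ(Y.left, ⊤) :=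
    RingHom.finite_algebraMap.mp ((IsFinite.SpecMap_iff φ).mp hfin')
  haveI : Algebra.Etale R Γ(Y.left, ⊤) :=
    RingHom.etale_algebraMap.mp ((HasRingHomProperty.Spec_iff (P := @Etale)).mp het')
  refine ⟨Γ(Y.left, ⊤), inferInstance, inferInstance, inferInstance, inferInstance, ⟨?_⟩⟩
  refine MorphismProperty.Over.isoMk e ?_
  show e.hom ≫ Spec.map φ = yh
  rw [hφ, Iso.hom_inv_id_assoc]

variable {R}

/-- The morphism of covers attached to an algebra map. -/
noncomputable def homOfAlg {B₁ B₂ : Type u} [CommRing B₁] [CommRing B₂] [Algebra R B₁]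
    [Algebra R B₂] [Module.Finite R B₁] [Algebra.Etale R B₁] [Module.Finite R B₂]
    [Algebra.Etale R B₂] (φ : B₂ →ₐ[R] B₁) : ofAlg R B₁ ⟶ ofAlg R B₂ :=
  MorphismProperty.Over.homMk (Spec.map (CommRingCat.ofHom φ.toRingHom)) (by
    show Spec.map (CommRingCat.ofHom φ.toRingHom) ≫ Spec.map (CommRingCat.ofHom (algebraMap R B₂)) =
      Spec.map (CommRingCat.ofHom (algebraMap R B₁))
    rw [← Spec.map_comp, ← CommRingCat.ofHom_comp]
    congr 2
    exact φ.comp_algebraMap) trivial

@[simp] lemma homOfAlg_left {B₁ B₂ : Type u} [CommRing B₁] [CommRing B₂] [Algebra R B₁]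
    [Algebra R B₂] [Module.Finite R B₁] [Algebra.Etale R B₁] [Module.Finite R B₂]
    [Algebra.Etale R B₂] (φ : B₂ →ₐ[R] B₁) :
    (homOfAlg φ).left = Spec.map (CommRingCat.ofHom φ.toRingHom) := rfl

/-- Every morphism between covers attached to algebras comes from an algebra map. -/
theorem exists_homOfAlg {B₁ B₂ : Type u} [CommRing B₁] [CommRing B₂] [Algebra R B₁]
    [Algebra R B₂] [Module.Finite R B₁] [Algebra.Etale R B₁] [Module.Finite R B₂]
    [Algebra.Etale R B₂] (g : ofAlg R B₁ ⟶ ofAlg R B₂) :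
    ∃ φ : B₂ →ₐ[R] B₁, g = homOfAlg φ := by
  let gl : Spec (CommRingCat.of B₁) ⟶ Spec (CommRingCat.of B₂) := g.left
  let φ₀ : CommRingCat.of B₂ ⟶ CommRingCat.of B₁ := Spec.preimage gl
  have hφ₀ : Spec.map φ₀ = gl := Spec.map_preimage _
  have hw : gl ≫ Spec.map (CommRingCat.ofHom (algebraMap R B₂)) =
      Spec.map (CommRingCat.ofHom (algebraMap R B₁)) := MorphismProperty.Over.w g
  rw [← hφ₀, ← Spec.map_comp] at hw
  have hw' := Spec.map_injective hw
  have hcomm : ∀ r : R, φ₀.hom (algebraMap R B₂ r) = algebraMap R B₁ r := fun r =>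
    congrArg (fun t => t.hom r) hw'
  refine ⟨{ φ₀.hom with commutes' := hcomm }, ?_⟩
  apply MorphismProperty.Over.Hom.ext
  rw [homOfAlg_left]
  show gl = _
  rw [← hφ₀]
  rfl

end Dict

/-- Surjectivity on morphisms transports along isomorphisms of source and target. -/
theorem map_surjective_of_iso {C D : Type*} [Category C] [Category D] (F : C ⥤ D) {X X' Y Y' : C}
    (eX : X ≅ X') (eY : Y ≅ Y')
    (h : Function.Surjective (F.map : (X' ⟶ Y') → (F.obj X' ⟶ F.obj Y'))) :
    Function.Surjective (F.map : (X ⟶ Y) → (F.obj X ⟶ F.obj Y)) := by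
  intro ψ
  obtain ⟨φ', hφ'⟩ := h (F.map eX.inv ≫ ψ ≫ F.map eY.hom)
  refine ⟨eX.hom ≫ φ' ≫ eY.inv, ?_⟩
  rw [F.map_comp, F.map_comp, hφ']
  simp only [Category.assoc, ← F.map_comp, Iso.hom_inv_id, F.map_id, Category.comp_id]
  rw [← Category.assoc, ← F.map_comp, Iso.hom_inv_id, F.map_id, Category.id_comp]

/-- Injectivity on morphisms transports along isomorphisms of source and target. -/
theorem map_injective_of_iso {C D : Type*} [Category C] [Category D] (F : C ⥤ D) {X X' Y Y' : C}
    (eX : X ≅ X') (eY : Y ≅ Y')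
    (h : Function.Injective (F.map : (X' ⟶ Y') → (F.obj X' ⟶ F.obj Y'))) :
    Function.Injective (F.map : (X ⟶ Y) → (F.obj X ⟶ F.obj Y)) := by
  intro φ₁ φ₂ h12
  have h1 : F.map (eX.inv ≫ φ₁ ≫ eY.hom) = F.map (eX.inv ≫ φ₂ ≫ eY.hom) := by
    rw [F.map_comp, F.map_comp, F.map_comp, F.map_comp, h12]
  have h2 := h h1
  have h3 : φ₁ ≫ eY.hom = φ₂ ≫ eY.hom := (cancel_epi eX.inv).mp h2
  exact (cancel_mono eY.hom).mp h3

end Groth.Agent.Helper7.FEtAff
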