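import Mathlib
import Groth.Prelude.Def_FEt
import Groth.Agent.Lib.Helper7.FEtAff.AlgLift
import Groth.Agent.Lib.Helper7.FEtAff.Dict
import Groth.Agent.Lib.Helper7.Hens.FinEtaleLift

/-! helper7: restriction of finite etale covers along a henselian pair is an equivalence (affine dictionary plus lifting of maps and of finite etale algebras). -/

set_option autoImplicit false
set_option linter.style.haveILetI false
set_option linter.unusedVariables false
set_option linter.unusedSectionVars false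

open CategoryTheory CategoryTheory.Limits AlgebraicGeometry TensorProduct

namespace Groth.Agent.Helper7.FEtAff

open Groth.Agent.Helper7.Hensel

universe u

theorem restrict_map_left_fst {X Y : Scheme.{u}} (f : X ⟶ Y) {Y₁ Y₂ : FEt.Cat Y} (Φ : Y₁ ⟶ Y₂) :
    ((FEt.restrict f).map Φ).left ≫ pullback.fst Y₂.hom f = pullback.fst Y₁.hom f ≫ Φ.left :=
  pullback.lift_fst _ _ _

theorem restrict_map_left_snd {X Y : Scheme.{u}} (f : X ⟶ Y) {Y₁ Y₂ : FEt.Cat Y} (Φ : Y₁ ⟶ Y₂) :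
    ((FEt.restrict f).map Φ).left ≫ pullback.snd Y₂.hom f = pullback.snd Y₁.hom f :=
  pullback.lift_snd _ _ _

section

variable {A : Type u} [CommRing A] (I : Ideal A)

/-- the closed immersion `Spec (A ⧸ I) ⟶ Spec A`. -/
noncomputable abbrev clImm : Spec (CommRingCat.of (A ⧸ I)) ⟶ Spec (CommRingCat.of A) :=
  Spec.map (CommRingCat.ofHom (Ideal.Quotient.mk I))

variable {I}

theorem map_bijective (hG : Gabber A I) (B₁ B₂ : Type u) [CommRing B₁] [CommRing B₂]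
    [Algebra A B₁] [Algebra A B₂] [Module.Finite A B₁] [Algebra.Etale A B₁] [Module.Finite A B₂]
    [Algebra.Etale A B₂] :
    Function.Bijective ((FEt.restrict (clImm I)).map :
      (ofAlg A B₁ ⟶ ofAlg A B₂) → (_ ⟶ _)) := by
  let α₁ : Spec (CommRingCat.of B₁) ⟶ Spec (CommRingCat.of A) :=
    Spec.map (CommRingCat.ofHom (algebraMap A B₁))
  let α₂ : Spec (CommRingCat.of B₂) ⟶ Spec (CommRingCat.of A) :=
    Spec.map (CommRingCat.ofHom (algebraMap A B₂))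
  let ι : pullback α₁ (clImm I) ≅ Spec (CommRingCat.of (B₁ ⊗[A] (A ⧸ I))) :=
    pullbackSpecIso A B₁ (A ⧸ I)
  let iL : B₁ →ₐ[A] B₁ ⊗[A] (A ⧸ I) := Algebra.TensorProduct.includeLeft
  have hι1 : ι.inv ≫ pullback.fst α₁ (clImm I) = Spec.map (CommRingCat.ofHom iL.toRingHom) :=
    pullbackSpecIso_inv_fst A B₁ (A ⧸ I)
  have hι2 : ι.inv ≫ pullback.snd α₁ (clImm I) =
      Spec.map (CommRingCat.ofHom (RingHomClass.toRingHom
        (Algebra.TensorProduct.includeRight : (A ⧸ I) →ₐ[A] B₁ ⊗[A] (A ⧸ I)))) :=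
    pullbackSpecIso_inv_snd A B₁ (A ⧸ I)
  let sp : (B₂ →ₐ[A] B₁) → (Spec (CommRingCat.of B₁) ⟶ Spec (CommRingCat.of B₂)) := fun φ =>
    Spec.map (CommRingCat.ofHom φ.toRingHom)
  let rl : (B₂ →ₐ[A] B₁) → (pullback α₁ (clImm I) ⟶ pullback α₂ (clImm I)) := fun φ =>
    ((FEt.restrict (clImm I)).map (homOfAlg φ)).left
  -- the key translation for morphisms coming from algebra maps
  have key : ∀ φ : B₂ →ₐ[A] B₁, ι.inv ≫ pullback.fst α₁ (clImm I) ≫ sp φ =
      Spec.map (CommRingCat.ofHom (iL.comp φ).toRingHom) := by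
    intro φ
    rw [← Category.assoc, hι1]
    show Spec.map (CommRingCat.ofHom iL.toRingHom) ≫ Spec.map (CommRingCat.ofHom φ.toRingHom) = _
    rw [← Spec.map_comp, ← CommRingCat.ofHom_comp]
    rfl
  have hfst : ∀ φ : B₂ →ₐ[A] B₁, rl φ ≫ pullback.fst α₂ (clImm I) =
        pullback.fst α₁ (clImm I) ≫ sp φ := fun φ =>
    restrict_map_left_fst (clImm I) (homOfAlg φ)
  have hsnd : ∀ φ : B₂ →ₐ[A] B₁, rl φ ≫ pullback.snd α₂ (clImm I) =
        pullback.snd α₁ (clImm I) := fun φ =>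
    restrict_map_left_snd (clImm I) (homOfAlg φ)
  constructor
  · intro Φ₁ Φ₂ h
    obtain ⟨φ₁, rfl⟩ := exists_homOfAlg Φ₁
    obtain ⟨φ₂, rfl⟩ := exists_homOfAlg Φ₂
    have h0 : rl φ₁ = rl φ₂ := congrArg (fun t => t.left) h
    have h1 : pullback.fst α₁ (clImm I) ≫ sp φ₁ = pullback.fst α₁ (clImm I) ≫ sp φ₂ := by
      rw [← hfst, ← hfst, h0]
    have h2 : ι.inv ≫ pullback.fst α₁ (clImm I) ≫ sp φ₁ =
        ι.inv ≫ pullback.fst α₁ (clImm I) ≫ sp φ₂ := by rw [h1]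
    rw [key, key] at h2
    have h3 : (iL.comp φ₁).toRingHom = (iL.comp φ₂).toRingHom :=
      congrArg CommRingCat.Hom.hom (Spec.map_injective h2)
    have h4 : iL.comp φ₁ = iL.comp φ₂ :=
      AlgHom.ext (fun x => RingHom.congr_fun h3 x)
    have h5 := (existsUnique_lift_tensor hG B₁ B₂ (iL.comp φ₂)).unique h4 rfl
    rw [h5]
  · intro ψ
    let ψl : pullback α₁ (clImm I) ⟶ pullback α₂ (clImm I) := ψ.left
    have hψw : ψl ≫ pullback.snd α₂ (clImm I) = pullback.snd α₁ (clImm I) :=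
      MorphismProperty.Over.w ψ
    let g' : Spec (CommRingCat.of (B₁ ⊗[A] (A ⧸ I))) ⟶ Spec (CommRingCat.of B₂) :=
      ι.inv ≫ ψl ≫ pullback.fst α₂ (clImm I)
    let γ₀ : CommRingCat.of B₂ ⟶ CommRingCat.of (B₁ ⊗[A] (A ⧸ I)) := Spec.preimage g'
    have hγ₀ : Spec.map γ₀ = g' := Spec.map_preimage _
    have hcomm0 : Spec.map γ₀ ≫ α₂ =
        Spec.map (CommRingCat.ofHom (algebraMap A (B₁ ⊗[A] (A ⧸ I)))) := by
      rw [hγ₀]
      show (ι.inv ≫ ψl ≫ pullback.fst α₂ (clImm I)) ≫ α₂ = _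
      rw [Category.assoc, Category.assoc, pullback.condition, ← Category.assoc ψl, hψw,
        ← Category.assoc, hι2, ← Spec.map_comp, ← CommRingCat.ofHom_comp]
      congr 2
      ext a
      exact (Algebra.TensorProduct.includeRight : (A ⧸ I) →ₐ[A] B₁ ⊗[A] (A ⧸ I)).commutes a
    rw [← Spec.map_comp] at hcomm0
    have hcomm1 := Spec.map_injective hcomm0
    have hcomm : ∀ a : A, γ₀.hom (algebraMap A B₂ a) = algebraMap A (B₁ ⊗[A] (A ⧸ I)) a :=
      fun a => congrArg (fun t => t.hom a) hcomm1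
    let γ : B₂ →ₐ[A] B₁ ⊗[A] (A ⧸ I) := { γ₀.hom with commutes' := hcomm }
    obtain ⟨φ, hφ, -⟩ := existsUnique_lift_tensor hG B₁ B₂ γ
    refine ⟨homOfAlg φ, ?_⟩
    apply MorphismProperty.Over.Hom.ext
    show rl φ = ψl
    apply pullback.hom_ext
    · rw [hfst]
      have h1 := key φ
      rw [hφ] at h1
      have h2 : Spec.map (CommRingCat.ofHom γ.toRingHom) = g' := hγ₀
      rw [h2] at h1
      have h3 : ι.hom ≫ ι.inv ≫ pullback.fst α₁ (clImm I) ≫ sp φ = ι.hom ≫ g' := by rw [h1]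
      rw [Iso.hom_inv_id_assoc] at h3
      rw [h3]
      show ι.hom ≫ ι.inv ≫ ψl ≫ pullback.fst α₂ (clImm I) = _
      rw [Iso.hom_inv_id_assoc]
    · rw [hψw]
      exact hsnd φ

theorem restrict_ofAlg_iso (B : Type u) [CommRing B] [Algebra A B] [Module.Finite A B]
    [Algebra.Etale A B] (C : Type u) [CommRing C] [Algebra (A ⧸ I) C] [Module.Finite (A ⧸ I) C]
    [Algebra.Etale (A ⧸ I) C] (θ : (A ⧸ I) ⊗[A] B ≃ₐ[A ⧸ I] C) :
    Nonempty ((FEt.restrict (clImm I)).obj (ofAlg A B) ≅ ofAlg (A ⧸ I) C) := by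
  let α : Spec (CommRingCat.of B) ⟶ Spec (CommRingCat.of A) :=
    Spec.map (CommRingCat.ofHom (algebraMap A B))
  let ι : pullback α (clImm I) ≅ Spec (CommRingCat.of (B ⊗[A] (A ⧸ I))) :=
    pullbackSpecIso A B (A ⧸ I)
  have hι2 : ι.inv ≫ pullback.snd α (clImm I) =
      Spec.map (CommRingCat.ofHom (RingHomClass.toRingHom
        (Algebra.TensorProduct.includeRight : (A ⧸ I) →ₐ[A] B ⊗[A] (A ⧸ I)))) :=
    pullbackSpecIso_inv_snd A B (A ⧸ I)
  let ε : B ⊗[A] (A ⧸ I) ≃+* C :=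
    (Algebra.TensorProduct.comm A B (A ⧸ I)).toRingEquiv.trans θ.toRingEquiv
  let k : Spec (CommRingCat.of (B ⊗[A] (A ⧸ I))) ≅ Spec (CommRingCat.of C) :=
    { hom := Spec.map (CommRingCat.ofHom ε.symm.toRingHom)
      inv := Spec.map (CommRingCat.ofHom ε.toRingHom)
      hom_inv_id := by
        rw [← Spec.map_comp, ← CommRingCat.ofHom_comp, RingEquiv.symm_toRingHom_comp_toRingHom]
        exact Spec.map_id _
      inv_hom_id := by
        rw [← Spec.map_comp, ← CommRingCat.ofHom_comp, RingEquiv.toRingHom_comp_symm_toRingHom]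
        exact Spec.map_id _ }
  have hk : k.hom ≫ Spec.map (CommRingCat.ofHom (algebraMap (A ⧸ I) C)) =
      Spec.map (CommRingCat.ofHom (RingHomClass.toRingHom
        (Algebra.TensorProduct.includeRight : (A ⧸ I) →ₐ[A] B ⊗[A] (A ⧸ I)))) := by
    show Spec.map (CommRingCat.ofHom ε.symm.toRingHom) ≫ _ = _
    rw [← Spec.map_comp, ← CommRingCat.ofHom_comp]
    congr 2
    refine RingHom.ext (fun x => ?_)
    show ε.symm (algebraMap (A ⧸ I) C x) = (1 : B) ⊗ₜ[A] x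
    rw [RingEquiv.symm_apply_eq]
    symm
    show θ (Algebra.TensorProduct.comm A B (A ⧸ I) ((1 : B) ⊗ₜ[A] x)) = _
    rw [Algebra.TensorProduct.comm_tmul]
    have h1 : (x ⊗ₜ[A] (1 : B) : (A ⧸ I) ⊗[A] B) = algebraMap (A ⧸ I) ((A ⧸ I) ⊗[A] B) x := by
      rw [Algebra.TensorProduct.algebraMap_apply]
      rfl
    rw [h1, θ.commutes]
  refine ⟨MorphismProperty.Over.isoMk (ι ≪≫ k) ?_⟩
  show (ι.hom ≫ k.hom) ≫ Spec.map (CommRingCat.ofHom (algebraMap (A ⧸ I) C)) =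
    pullback.snd α (clImm I)
  rw [Category.assoc, hk, ← hι2, Iso.hom_inv_id_assoc]

end

theorem isEquivalence (A : Type u) [CommRing A] (I : Ideal A) [HenselianRing A I] :
    (FEt.restrict (Spec.map (CommRingCat.ofHom (Ideal.Quotient.mk I)))).IsEquivalence := by
  have hG : Gabber A I := Gabber.of_henselianRing inferInstance
  refine { faithful := ⟨?_⟩, full := ⟨?_⟩, essSurj := ⟨?_⟩ }
  · intro Y₁ Y₂
    obtain ⟨B₁, _, _, _, _, ⟨e₁⟩⟩ := exists_iso_ofAlg A Y₁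
    obtain ⟨B₂, _, _, _, _, ⟨e₂⟩⟩ := exists_iso_ofAlg A Y₂
    exact map_injective_of_iso _ e₁ e₂ (map_bijective hG B₁ B₂).1
  · intro Y₁ Y₂
    obtain ⟨B₁, _, _, _, _, ⟨e₁⟩⟩ := exists_iso_ofAlg A Y₁
    obtain ⟨B₂, _, _, _, _, ⟨e₂⟩⟩ := exists_iso_ofAlg A Y₂
    exact map_surjective_of_iso _ e₁ e₂ (map_bijective hG B₁ B₂).2
  · intro Z
    obtain ⟨C, _, _, _, _, ⟨eZ⟩⟩ := exists_iso_ofAlg (A ⧸ I) Z
    obtain ⟨B, _, _, hfin, het, ⟨θ⟩⟩ := Groth.Agent.Helper7.FinEtaleLift.S0532_main A I C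
    haveI := hfin
    haveI := het
    obtain ⟨e⟩ := restrict_ofAlg_iso (I := I) B C θ
    exact ⟨ofAlg A B, ⟨e ≪≫ eZ.symm⟩⟩

end Groth.Agent.Helper7.FEtAff
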